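import Cfsg.Agent.CoOneOut.Data

/-!
Moves on packed coordinate lists, for the kernel: sixteen bits for each entry, offset by 32768.
-/

set_option autoImplicit false

namespace CfsgLib.CoOneOut

open Cfsg CfsgLib.Mathieu CfsgLib.Leech

/-- A field of a packed list. -/
def fget (v i : ℕ) : ℕ := Nat.mod (Nat.shiftRight v (Nat.mul 16 i)) 65536

/-- Packing of `n` values from the position `s`. -/
def packH (f : ℕ → ℕ) : ℕ → ℕ → ℕ
  | 0, _ => 0
  | n + 1, s => Nat.add (f s) (Nat.mul 65536 (packH f n (Nat.add s 1)))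

theorem fget_packH (f : ℕ → ℕ) : ∀ (n s : ℕ), (∀ i < n, f (s + i) < 65536) →
    ∀ i < n, fget (packH f n s) i = f (s + i)
  | 0, _, _, i, hi => absurd hi (Nat.not_lt_zero i)
  | n + 1, s, hf, i, hi => by
    show (f s + 65536 * packH f n (s + 1)) >>> (16 * i) % 65536 = f (s + i)
    rw [Nat.shiftRight_eq_div_pow, pow_mul, show (2 : ℕ) ^ 16 = 65536 from rfl]
    have h0 := hf 0 (Nat.succ_pos n)
    rw [Nat.add_zero] at h0
    rcases i with _ | i
    · rw [pow_zero, Nat.div_one, Nat.add_mul_mod_self_left, Nat.mod_eq_of_lt h0, Nat.add_zero]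
    · have ih := fget_packH f n (s + 1)
        (fun j hj => by rw [show s + 1 + j = s + (j + 1) by omega]; exact hf _ (by omega)) i (by omega)
      rw [show s + (i + 1) = s + 1 + i by omega, ← ih]
      show _ = packH f n (s + 1) >>> (16 * i) % 65536
      rw [Nat.shiftRight_eq_div_pow, pow_mul, show (2 : ℕ) ^ 16 = 65536 from rfl, pow_succ',
        ← Nat.div_div_eq_div_mul, Nat.add_mul_div_left _ _ (by norm_num : 0 < 65536),
        Nat.div_eq_of_lt h0, Nat.zero_add]

/-- A monomial move on a packed list. -/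
def fMono (t c v : ℕ) : ℕ :=
  packH (fun i =>
    bif Nat.beq (Nat.mod (Nat.shiftRight c i) 2) 1 then
      Nat.sub 65536 (fget v (Nat.mod (Nat.shiftRight t (Nat.mul 8 i)) 256))
    else fget v (Nat.mod (Nat.shiftRight t (Nat.mul 8 i)) 256)) 24 0

/-- The tetrads of the standard sextet. -/
def tetPts : List (ℕ × ℕ × ℕ × ℕ) :=
  [(0, 1, 2, 23), (4, 13, 16, 22), (3, 5, 14, 17), (6, 7, 19, 21), (9, 10, 15, 20), (8, 11, 12, 18)]

/-- The tetrad of each position, packed. -/
def tetPack : ℕ := packH (fun i => tetList.getD i 0) 24 0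

/-- Half sums over the tetrads. -/
def fSums (v : ℕ) : ℕ :=
  packH (fun k => match tetPts.getD k (0, 0, 0, 0) with
    | (a, b, c, d) => Nat.sub
        (Nat.div (Nat.add (Nat.add (fget v a) (fget v b)) (Nat.add (fget v c) (fget v d))) 2) 32768) 6 0

/-- The sextet involution on a packed list, given the half sums and the tetrads. -/
def fXi (v S T : ℕ) : ℕ :=
  packH (fun i =>
    bif Nat.beq (fget T i) 0 then Nat.sub (Nat.add (fget S 0) 32768) (fget v i)
    else Nat.sub (Nat.add (fget v i) 32768) (fget S (fget T i))) 24 0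

/-- A move on a packed list. -/
def fAct : Mv → ℕ → ℕ
  | .mono t c, v => fMono t c v
  | .xi, v => fXi v (fSums v) tetPack

/-- A sequence of moves on a packed list. -/
def fRun (ms : List Mv) (v : ℕ) : ℕ := ms.foldl (fun a m => fAct m a) v

/-- The packed unit list. -/
def fUnit (j : ℕ) : ℕ := packH (fun i => bif Nat.beq i j then 32776 else 32768) 24 0

/-- The packed value `v` stands for `l`. -/
def Rel (v : ℕ) (l : List ℤ) : Prop := ∀ i < 24, (fget v i : ℤ) = l.getD i 0 + 32768

theorem small_of_norm {l : List ℤ} (hn : sqNorm (vec l) = 64) {i : ℕ} (hi : i < 24) :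
    -8 ≤ l.getD i 0 ∧ l.getD i 0 ≤ 8 := by
  have h : (l.getD i 0) ^ 2 ≤ 64 := by
    rw [← hn]
    have := Finset.single_le_sum (fun q _ => sq_nonneg (vec l q)) (Finset.mem_univ (pt i))
    simp only [vec, idx_pt hi] at this
    exact this
  generalize l.getD i 0 = x at h
  constructor <;> nlinarith

theorem rel_mono {t c v : ℕ} {l : List ℤ} (ht : ∀ i < 24, app t i < 24) (hr : Rel v l)
    (hs : ∀ i < 24, -8 ≤ l.getD i 0 ∧ l.getD i 0 ≤ 8) :
    Rel (fMono t c v) ((Mv.mono t c).act l) := by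
  have hb : ∀ i, Nat.beq (Nat.mod (Nat.shiftRight c i) 2) 1 = c.testBit i := by
    intro i
    rw [Nat.testBit_eq_decide_div_mod_eq, ← Nat.shiftRight_eq_div_pow, Bool.eq_iff_iff, Nat.beq_eq,
      decide_eq_true_eq]
    rfl
  have key : ∀ i < 24, ((bif Nat.beq (Nat.mod (Nat.shiftRight c i) 2) 1 then
      Nat.sub 65536 (fget v (app t i)) else fget v (app t i) : ℕ) : ℤ) =
      (if c.testBit i then -l.getD (app t i) 0 else l.getD (app t i) 0) + 32768 := by
    intro i hi
    have h1 := hr _ (ht i hi)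
    have h2 := hs _ (ht i hi)
    rw [hb]
    cases c.testBit i
    · simpa using h1
    · show ((65536 - fget v (app t i) : ℕ) : ℤ) = _
      simp only [if_true]
      omega
  have happ : ∀ i, app t i = Nat.mod (Nat.shiftRight t (Nat.mul 8 i)) 256 := fun i => by
    simp [app, Nat.shiftRight_eq_div_pow]; rfl
  intro i hi
  rw [fMono, fget_packH _ 24 0 (fun j hj => ?_) i hi, Nat.zero_add, ← happ, key i hi, Mv.act,
    getD_map_range _ hi]
  rw [Nat.zero_add, ← happ]
  have := key j hj
  have h2 := hs _ (ht j hj)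
  split at this <;> omega

theorem add_sub_cast (k x s : ℕ) (h : s ≤ x + k) :
    ((Nat.sub (Nat.add x k) s : ℕ) : ℤ) = x + k - s := by
  show ((x + k - s : ℕ) : ℤ) = _
  omega

theorem rel_xi {v : ℕ} {l : List ℤ} (hr : Rel v l) (hs : ∀ i < 24, -8 ≤ l.getD i 0 ∧ l.getD i 0 ≤ 8) :
    Rel (fAct .xi v) (Mv.xi.act l) := by
  have hpt : ∀ k < 6, ((List.range 24).filter fun j => tetList.getD j 0 == k) =
      [(tetPts.getD k (0, 0, 0, 0)).1, (tetPts.getD k (0, 0, 0, 0)).2.1,
        (tetPts.getD k (0, 0, 0, 0)).2.2.1, (tetPts.getD k (0, 0, 0, 0)).2.2.2] ∧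
      (tetPts.getD k (0, 0, 0, 0)).1 < 24 ∧ (tetPts.getD k (0, 0, 0, 0)).2.1 < 24 ∧
        (tetPts.getD k (0, 0, 0, 0)).2.2.1 < 24 ∧ (tetPts.getD k (0, 0, 0, 0)).2.2.2 < 24 := by
    decide +kernel
  have hT : ∀ i < 24, fget tetPack i = tetList.getD i 0 ∧ tetList.getD i 0 < 6 := by decide +kernel
  let S : ℕ → ℤ := fun k =>
    (((List.range 24).filter fun j => tetList.getD j 0 == k).map fun j => l.getD j 0).sum
  have hS : ∀ k < 6, (fget (fSums v) k : ℤ) = S k / 2 + 32768 ∧ -32 ≤ S k ∧ S k ≤ 32 := by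
    intro k hk
    obtain ⟨e, ha, hb, hc, hd⟩ := hpt k hk
    have eS : S k = l.getD (tetPts.getD k (0, 0, 0, 0)).1 0 + l.getD (tetPts.getD k (0, 0, 0, 0)).2.1 0 +
        (l.getD (tetPts.getD k (0, 0, 0, 0)).2.2.1 0 + l.getD (tetPts.getD k (0, 0, 0, 0)).2.2.2 0) := by
      simp only [S, e, List.map_cons, List.map_nil, List.sum_cons, List.sum_nil]
      ring
    rw [fSums, fget_packH _ 6 0 (fun j hj => ?_) k hk, Nat.zero_add]
    · have := hr _ ha; have := hr _ hb; have := hr _ hc; have := hr _ hd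
      have := hs _ ha; have := hs _ hb; have := hs _ hc; have := hs _ hd
      rw [eS]
      generalize tetPts.getD k (0, 0, 0, 0) = x at *
      obtain ⟨a, b, c, d⟩ := x
      show ((((fget v a + fget v b) + (fget v c + fget v d)) / 2 - 32768 : ℕ) : ℤ) = _ ∧ _
      dsimp only at *
      omega
    · obtain ⟨-, ha, hb, hc, hd⟩ := hpt j hj
      rw [Nat.zero_add]
      generalize tetPts.getD j (0, 0, 0, 0) = x at *
      obtain ⟨a, b, c, d⟩ := x
      show ((fget v a + fget v b) + (fget v c + fget v d)) / 2 - 32768 < 65536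
      dsimp only at *
      have := hr _ ha; have := hr _ hb; have := hr _ hc; have := hr _ hd
      have := hs _ ha; have := hs _ hb; have := hs _ hc; have := hs _ hd
      omega
  have key : ∀ i < 24, ((bif Nat.beq (fget tetPack i) 0 then
      Nat.sub (Nat.add (fget (fSums v) 0) 32768) (fget v i)
    else Nat.sub (Nat.add (fget v i) 32768) (fget (fSums v) (fget tetPack i)) : ℕ) : ℤ) =
      (if tetList.getD i 0 = 0 then -1 else 1) * (l.getD i 0 - S (tetList.getD i 0) / 2) + 32768 := by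
    intro i hi
    obtain ⟨e, h6⟩ := hT i hi
    rw [e]
    have h1 := hr i hi
    have h2 := hs i hi
    obtain ⟨s1, s2, s3⟩ := hS _ h6
    by_cases h : tetList.getD i 0 = 0
    · rw [h] at s1 s2 s3 ⊢
      rw [show Nat.beq 0 0 = true from rfl, cond_true, add_sub_cast 32768 _ _ (by omega), if_pos rfl]
      omega
    · rw [show Nat.beq (tetList.getD i 0) 0 = false from
        Bool.eq_false_iff.2 fun hb => h (Nat.eq_of_beq_eq_true hb), if_neg h, cond_false,
        add_sub_cast 32768 _ _ (by omega)]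
      omega
  intro i hi
  rw [fAct, fXi, fget_packH _ 24 0 (fun j hj => ?_) i hi, Nat.zero_add, key i hi, Mv.act,
    getD_map_range _ hi, getD_map_range _ (hT i hi).2]
  rw [Nat.zero_add]
  have := key j hj
  have h2 := hs j hj
  obtain ⟨-, h6⟩ := hT j hj
  obtain ⟨-, s2, s3⟩ := hS _ h6
  split at this <;> omega

theorem rel_run : ∀ (ms : List Mv), ms.all Mv.ok = true → ∀ (v : ℕ) (l : List ℤ),
    vec l ∈ leechLattice → sqNorm (vec l) = 64 → Rel v l → Rel (fRun ms v) (runMoves ms l)
  | [], _, _, _, _, _, hr => hr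
  | m :: ms, h, v, l, hl, hn, hr => by
    simp only [List.all_cons, Bool.and_eq_true] at h
    obtain ⟨g, hg⟩ := m.act_spec h.1
    have hl' : vec (m.act l) ∈ leechLattice := hg l hl ▸ (g • (⟨vec l, hl⟩ : leechLattice)).2
    have hn' : sqNorm (vec (m.act l)) = 64 := by rw [← hg l hl, co0_norm]; exact hn
    refine rel_run ms h.2 (fAct m v) (m.act l) hl' hn' ?_
    have hs : ∀ i < 24, -8 ≤ l.getD i 0 ∧ l.getD i 0 ≤ 8 := fun i hi => small_of_norm hn hi
    cases m with
    | mono t c =>
      refine rel_mono (fun i hi => ?_) hr hs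
      have h1 := h.1
      simp only [Mv.ok, tableValid, Bool.and_eq_true, allBelow_iff, Nat.blt_eq] at h1
      exact h1.1.1.1 i hi
    | xi => exact rel_xi hr hs

end CfsgLib.CoOneOut
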