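import Cfsg.Agent.CoOneInv.Centralizer
import Cfsg.Agent.CoOneOut.Fast

/-!
Move lists as elements of the first Conway group.
-/

set_option autoImplicit false

namespace CfsgLib.CoOneOut

open Cfsg CfsgLib.Mathieu CfsgLib.Leech CfsgLib.CoOneInv

open Classical in
/-- The element carried out by a move list. -/
noncomputable def moveElt (w : List Mv) : Co0 :=
  if h : w.all Mv.ok = true then Classical.choose (runMoves_spec w h) else 1

theorem moveElt_spec {w : List Mv} (h : w.all Mv.ok = true) (l : List ℤ)
    (hl : vec l ∈ leechLattice) :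
    ((moveElt w • (⟨vec l, hl⟩ : leechLattice) : leechLattice) : GolayPt → ℤ) =
      vec (runMoves w l) := by
  rw [moveElt, dif_pos h]
  exact (Classical.choose_spec (runMoves_spec w h)).2 l hl

/-- The unit list at a position. -/
def unitL (j : ℕ) : List ℤ := (List.range 24).map fun i => if i = j then (8 : ℤ) else 0

theorem eight_eq_unitL (p : GolayPt) : eight p = vec (unitL (idx p)) := eight_eq_vec p

theorem unitL_mem (j : ℕ) (hj : j < 24) : vec (unitL j) ∈ leechLattice := by
  rw [← idx_pt hj, ← eight_eq_unitL]; exact eight_mem _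

theorem moveElt_eightL {w : List Mv} (h : w.all Mv.ok = true) (p : GolayPt) :
    ((moveElt w • eightL p : leechLattice) : GolayPt → ℤ) = vec (runMoves w (unitL (idx p))) := by
  have hm : vec (unitL (idx p)) ∈ leechLattice := unitL_mem _ (idx_lt p)
  rw [show eightL p = ⟨_, hm⟩ from Subtype.ext (eight_eq_unitL p), moveElt_spec h]

theorem rel_fUnit : ∀ j < 24, ∀ i < 24, (fget (fUnit j) i : ℤ) = (unitL j).getD i 0 + 32768 := by
  decide +kernel

theorem rel_fRun {w : List Mv} (hw : w.all Mv.ok = true) {j : ℕ} (hj : j < 24) :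
    Rel (fRun w (fUnit j)) (runMoves w (unitL j)) := by
  refine rel_run w hw _ _ (unitL_mem j hj) ?_ (rel_fUnit j hj)
  rw [← idx_pt hj, ← eight_eq_unitL]
  exact sqNorm_eight _

/-- The two lists act alike on unit lists. -/
def sameOn (u v : List Mv) : Bool :=
  (List.range 24).all fun j => Nat.beq (fRun u (fUnit j)) (fRun v (fUnit j))

theorem runMoves_eq_of_sameOn {u v : List Mv} (hu : u.all Mv.ok = true) (hv : v.all Mv.ok = true)
    (h : sameOn u v = true) {j : ℕ} (hj : j < 24) :
    vec (runMoves u (unitL j)) = vec (runMoves v (unitL j)) := by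
  have e := Nat.eq_of_beq_eq_true (List.all_eq_true.1 h j (List.mem_range.2 hj))
  funext p
  have h1 := rel_fRun hu hj _ (idx_lt p)
  have h2 := rel_fRun hv hj _ (idx_lt p)
  rw [e] at h1
  show (runMoves u (unitL j)).getD (idx p) 0 = (runMoves v (unitL j)).getD (idx p) 0
  omega

theorem moveElt_eq {u v : List Mv} (hu : u.all Mv.ok = true) (hv : v.all Mv.ok = true)
    (h : sameOn u v = true) : moveElt u = moveElt v :=
  co0_eq_of_eight fun p => Subtype.ext (by
    rw [moveElt_eightL hu, moveElt_eightL hv, runMoves_eq_of_sameOn hu hv h (idx_lt p)])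

theorem moveElt_append {u v : List Mv} (hu : u.all Mv.ok = true) (hv : v.all Mv.ok = true) :
    moveElt (u ++ v) = moveElt v * moveElt u := by
  refine co0_eq_of_eight fun p => Subtype.ext ?_
  rw [moveElt_eightL (by rw [List.all_append, hu, hv]; rfl), mul_smul]
  have hm : vec (runMoves u (unitL (idx p))) ∈ leechLattice :=
    moveElt_eightL hu p ▸ (moveElt u • eightL p).2
  rw [show moveElt u • eightL p = ⟨_, hm⟩ from Subtype.ext (moveElt_eightL hu p), moveElt_spec hv]
  simp only [runMoves, List.foldl_append]

theorem moveElt_nil : moveElt [] = 1 := by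
  refine co0_eq_of_eight fun p => Subtype.ext ?_
  rw [moveElt_eightL rfl, one_smul]
  exact (eight_eq_unitL p).symm

theorem ok_mono {t c : ℕ} (h : (Mv.mono t c).ok = true) :
    ∃ (τ : Equiv.Perm GolayPt) (hτ : τ ∈ M24)
      (hc : setOf24 c ∈ supports (golayCode : Set (GolayPt → ZMod 2))), Rep enc τ t ∧
      moveElt [Mv.mono t c] = monoCo0 τ hτ (setOf24 c) hc := by
  have h' := h
  simp only [Mv.ok, Bool.and_eq_true] at h
  obtain ⟨⟨ht, hp⟩, hc⟩ := h
  obtain ⟨τ, hr⟩ := exists_rep_of_valid ht
  refine ⟨τ, mem_M24_of_table hr hp, setOf24_mem_supports hc, hr, ?_⟩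
  refine co0_eq_of_eight fun p => Subtype.ext ?_
  rw [moveElt_eightL (by simp only [List.all_cons, List.all_nil, h', Bool.and_self]), monoCo0_smul]
  show vec (runMoves [Mv.mono t c] (unitL (idx p))) = monoFun τ (setOf24 c) (eight p)
  funext q
  simp only [runMoves, List.foldl_cons, List.foldl_nil, Mv.act, vec_map_range]
  rw [eight_eq_unitL]
  simp only [monoFun, vec, mem_setOf24]
  rw [show app t (idx q) = idx (τ q) from hr q]

/-- A monomial move with the given permutation and signs. -/
theorem moveElt_mono {t c : ℕ} (h : (Mv.mono t c).ok = true) {τ : Equiv.Perm GolayPt} (hτ : τ ∈ M24)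
    (hr : Rep enc τ t) {s : Finset GolayPt}
    (hs : s ∈ supports (golayCode : Set (GolayPt → ZMod 2))) (e : setOf24 c = s) :
    moveElt [Mv.mono t c] = monoCo0 τ hτ s hs := by
  obtain ⟨σ, hσ, hc, hr', h1⟩ := ok_mono h
  rw [h1]
  exact monoCo0_congr (Rep.unique hr' hr) e

theorem moveElt_neg : moveElt [negMv] = negCo0 :=
  moveElt_mono (by decide +kernel) (one_mem _) (rep_of_tableOK id (fun _ => rfl) (by decide +kernel))
    _ (by decide +kernel)

/-! ### In the quotient -/

/-- The image of a move list in the first Conway group. -/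
noncomputable def coElt (w : List Mv) : Spor.Co1 := projC (moveElt w)

theorem coElt_nil : coElt [] = 1 := by rw [coElt, moveElt_nil, map_one]

theorem coElt_append {u v : List Mv} (hu : u.all Mv.ok = true) (hv : v.all Mv.ok = true) :
    coElt (u ++ v) = coElt v * coElt u := by
  rw [coElt, moveElt_append hu hv, map_mul]; rfl

theorem ok_replicate {w : List Mv} (hw : w.all Mv.ok = true) :
    ∀ n, (List.replicate n w).flatten.all Mv.ok = true
  | 0 => rfl
  | n + 1 => by
    rw [List.replicate_succ, List.flatten_cons, List.all_append, hw, ok_replicate hw n]; rfl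

theorem moveElt_pow {w : List Mv} (hw : w.all Mv.ok = true) :
    ∀ n, moveElt (List.replicate n w).flatten = moveElt w ^ n
  | 0 => by rw [pow_zero]; exact moveElt_nil
  | n + 1 => by
    rw [List.replicate_succ, List.flatten_cons, moveElt_append hw (ok_replicate hw n),
      moveElt_pow hw n, pow_succ]

theorem coElt_pow {w : List Mv} (hw : w.all Mv.ok = true) (n : ℕ) :
    coElt (List.replicate n w).flatten = coElt w ^ n := by
  rw [coElt, moveElt_pow hw, map_pow]; rfl

/-- The two lists agree modulo signs. -/
def sameUpToSign (u v : List Mv) : Bool := sameOn u v || sameOn u (v ++ [negMv])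

theorem negMv_ok : [negMv].all Mv.ok = true := by decide +kernel

theorem coElt_eq {u v : List Mv} (hu : u.all Mv.ok = true) (hv : v.all Mv.ok = true)
    (h : sameUpToSign u v = true) : coElt u = coElt v := by
  rcases Bool.or_eq_true .. |>.mp h with h | h
  · rw [coElt, moveElt_eq hu hv h]; rfl
  · rw [coElt, moveElt_eq hu (by rw [List.all_append, hv, negMv_ok]; rfl) h,
      moveElt_append hv negMv_ok, map_mul, moveElt_neg, projC_negCo0, one_mul]
    rfl

/-- The lists differ at some position. -/
def differs (l m : List ℤ) : Bool := (List.range 24).any fun i => l.getD i 0 != m.getD i 0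

theorem vec_ne {l m : List ℤ} (h : differs l m = true) : vec l ≠ vec m := by
  intro e
  simp only [differs, List.any_eq_true, List.mem_range, bne_iff_ne] at h
  obtain ⟨i, hi, hne⟩ := h
  have := congrFun e (pt i)
  simp only [vec, idx_pt hi] at this
  exact hne this

/-- The packed values differ at some position. -/
def differsF (r u : ℕ) : Bool := (List.range 24).any fun i => !Nat.beq (fget r i) (fget u i)

theorem vec_ne_of_differsF {r u : ℕ} {l m : List ℤ} (hr : Rel r l) (hu : Rel u m)
    (h : differsF r u = true) : vec l ≠ vec m := by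
  intro e
  simp only [differsF, List.any_eq_true, List.mem_range, Bool.not_eq_true'] at h
  obtain ⟨i, hi, hne⟩ := h
  have h1 := hr i hi
  have h2 := hu i hi
  have h3 := congrFun e (pt i)
  simp only [vec, idx_pt hi] at h3
  have : fget r i = fget u i := by omega
  rw [this] at hne
  simp at hne

/-- The list moves the unit list at `j` off both of its signs. -/
def movesUnit (w : List Mv) (j : ℕ) : Bool :=
  differsF (fRun w (fUnit j)) (fUnit j) &&
    differsF (fRun w (fUnit j)) (fRun [negMv] (fUnit j))

theorem coElt_ne_one {w : List Mv} (hw : w.all Mv.ok = true) {j : ℕ} (hj : j < 24)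
    (h : movesUnit w j = true) : coElt w ≠ 1 := by
  intro e
  simp only [movesUnit, Bool.and_eq_true] at h
  rw [← coElt_nil] at e
  rcases projC_eq_cases e with e | e
  · refine vec_ne_of_differsF (rel_fRun hw hj) (rel_fUnit j hj) h.1 ?_
    rw [← moveElt_spec hw _ (unitL_mem j hj), ← e, moveElt_nil, one_smul]
  · refine vec_ne_of_differsF (rel_fRun hw hj) (rel_fRun negMv_ok hj) h.2 ?_
    have hn : moveElt w = negCo0 := by
      rw [moveElt_nil] at e
      exact (eq_inv_of_mul_eq_one_right e.symm).trans (inv_eq_of_mul_eq_one_right negCo0_sq)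
    rw [← moveElt_spec hw _ (unitL_mem j hj), ← moveElt_spec negMv_ok _ (unitL_mem j hj),
      moveElt_neg, hn]

end CfsgLib.CoOneOut
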