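import Cfsg.Agent.CoOneOut.Moves
import Cfsg.Agent.Leech.Co1

/-!
The element of order 23 of the first Conway group is self-centralising.
-/

set_option autoImplicit false

namespace CfsgLib.CoOneOut

open Cfsg CfsgLib.Mathieu CfsgLib.Leech CfsgLib.CoOneInv

/-- The first generator. -/
noncomputable def aOne : Spor.Co1 := coElt [aMv]

/-- The second generator. -/
noncomputable def bOne : Spor.Co1 := coElt [bMv]

/-- The third generator. -/
noncomputable def cOne : Spor.Co1 := coElt cW

theorem aMv_ok : [aMv].all Mv.ok = true := by decide +kernel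

theorem bMv_ok : [bMv].all Mv.ok = true := by decide +kernel

theorem moveElt_a_pow : moveElt [aMv] ^ 23 = 1 := by
  rw [← moveElt_pow aMv_ok, ← moveElt_nil]
  exact moveElt_eq (ok_replicate aMv_ok _) rfl (by decide +kernel)

theorem moveElt_b_pow : moveElt [bMv] ^ 11 = 1 := by
  rw [← moveElt_pow bMv_ok, ← moveElt_nil]
  exact moveElt_eq (ok_replicate bMv_ok _) rfl (by decide +kernel)

theorem orderOf_aOne : orderOf aOne = 23 := by
  have := Fact.mk (by norm_num : Nat.Prime 23)
  refine orderOf_eq_prime ?_ ?_
  · rw [aOne, coElt, ← map_pow, moveElt_a_pow, map_one]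
  · exact coElt_ne_one aMv_ok (j := 0) (by norm_num) (by decide +kernel)

/-- A lift of something commuting with the image of an element of odd order commutes with it. -/
theorem commute_of_projC {g x : Co0} {m : ℕ} (hm : Odd m) (hx : x ^ m = 1)
    (h : projC g * projC x = projC x * projC g) : g * x = x * g := by
  rw [← map_mul, ← map_mul] at h
  rcases projC_eq_cases h with e | e
  · exact e.symm
  · exfalso
    have hz : Commute negCo0 (g * x * g⁻¹) := (Subgroup.mem_center_iff.1 negCo0_mem_center _).symm
    have he : x = negCo0 * (g * x * g⁻¹) := by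
      rw [← mul_assoc, ← e, mul_inv_cancel_right]
    have h1 := congrArg (· ^ m) he
    simp only [hx, hz.mul_pow, conj_pow, mul_one, mul_inv_cancel] at h1
    obtain ⟨k, rfl⟩ := hm
    rw [pow_succ, pow_mul, sq, negCo0_sq, one_pow, one_mul] at h1
    exact negCo0_ne_one h1.symm

theorem moveElt_aMv : moveElt [aMv] = pi23⁻¹ := by
  rw [pi23, ← map_inv, permHom, MonoidHom.coe_mk, OneHom.coe_mk]
  refine (moveElt_mono (by decide +kernel) shiftOne_mem_M24
    (rep_of_tableOK shiftOne (fun _ => rfl) (by decide +kernel)) empty_mem_supports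
    (by decide +kernel)).trans (monoCo0_congr ?_ rfl)
  exact (inv_inv shiftOne).symm

instance fact_prime_23 : Fact (Nat.Prime 23) := ⟨by norm_num⟩

theorem card_zpowers_sylow {u : Spor.Co1} (hu : orderOf u = 23) :
    Nat.card (Subgroup.zpowers u) = 23 ^ (Nat.card Spor.Co1).factorization 23 := by
  have hc : Nat.card Spor.Co1 = 23 * 180772904632320000 := card_Co1.trans (by norm_num)
  rw [Nat.card_zpowers, hu, hc, Nat.factorization_mul (by norm_num) (by norm_num), Finsupp.add_apply,
    Nat.Prime.factorization_self Fact.out, Nat.factorization_eq_zero_of_not_dvd (by norm_num),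
    Nat.add_zero, pow_one]

/-- The first generator is self-centralising. -/
theorem centralizer_aOne {x : Spor.Co1} (hx : x * aOne = aOne * x) :
    x ∈ Subgroup.zpowers aOne := by
  have := finite_Co1
  obtain ⟨g, rfl⟩ := QuotientGroup.mk'_surjective (Subgroup.center Co0) x
  have hcomm : g * moveElt [aMv] = moveElt [aMv] * g :=
    commute_of_projC (m := 23) (by decide) moveElt_a_pow hx
  rw [moveElt_aMv] at hcomm
  have hg : g * pi23 = pi23 * g := (Commute.inv_right_iff.1 hcomm).eq
  have hp : (projC g) ^ 23 = 1 := by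
    rw [← map_pow]
    rcases commute_pi23_cases g hg with e | e <;> rw [e]
    exacts [map_one _, projC_negCo0]
  let P : Sylow 23 Spor.Co1 := Sylow.ofCard _ (card_zpowers_sylow orderOf_aOne)
  have hQ : IsPGroup 23 (Subgroup.zpowers (projC g)) := by
    rintro ⟨y, k, rfl⟩
    refine ⟨1, Subtype.ext ?_⟩
    show ((projC g) ^ k) ^ (23 ^ 1) = 1
    rw [pow_one, ← zpow_natCast, ← zpow_mul, mul_comm, zpow_mul, zpow_natCast, hp, one_zpow]
  have hN : Subgroup.zpowers (projC g) ≤ Subgroup.normalizer (P : Set Spor.Co1) := by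
    refine le_trans ?_ (Subgroup.centralizer_le_normalizer _)
    rw [Subgroup.zpowers_le, Subgroup.mem_centralizer_iff]
    rintro y ⟨k, rfl⟩
    exact (Commute.zpow_left (Commute.symm hx) k).eq
  have h2 := P.is_maximal' (P.isPGroup'.to_sup_of_normal_left' hQ hN) le_sup_left
  have : projC g ∈ (P : Subgroup Spor.Co1) := h2 ▸ Subgroup.mem_sup_right (Subgroup.mem_zpowers _)
  exact this

end CfsgLib.CoOneOut
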