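import Cfsg.Agent.CoOneOut.CentA
import Cfsg.Agent.SporadicOut.NormEnum

/-!
The centralizer of the element of order 11 of the first Conway group.
-/

set_option autoImplicit false

namespace CfsgLib.CoOneOut

open Cfsg CfsgLib.Mathieu CfsgLib.Leech CfsgLib.CoOneInv CfsgLib.SporadicOut

/-- Whether a position is a nonzero square. -/
def sqBit (i : ℕ) : Bool := (List.range 11).any fun n => 2 ^ n % 23 == i

/-- A value by the orbit of doubling: at 23, at 0, on squares, on the others. -/
def orbVal {α : Type*} (s u p r : α) (i : ℕ) : α :=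
  if i = 23 then s else if i = 0 then u else if sqBit i then p else r

theorem dbl_rep {τ : Equiv.Perm GolayPt} (hr : Rep enc τ dblTab) {i : ℕ} (hi : i < 23) :
    τ (pt i) = pt (2 * i % 23) := by
  have h := hr (pt i)
  change app dblTab (idx (pt i)) = idx (τ (pt i)) at h
  rw [idx_pt (by omega : i < 24)] at h
  rw [← pt_idx (τ (pt i)), ← h]
  exact congrArg pt ((by decide +kernel : ∀ j < 23, app dblTab j = 2 * j % 23) i hi)

theorem orbVal_eq {α : Type*} {τ : Equiv.Perm GolayPt} (hr : Rep enc τ dblTab) (f : GolayPt → α)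
    (hf : ∀ q, f (τ q) = f q) (q : GolayPt) :
    f q = orbVal (f (pt 23)) (f (pt 0)) (f (pt 1)) (f (pt 5)) (idx q) := by
  have hn : ∀ r < 23, ∀ n, f (pt (2 ^ n * r % 23)) = f (pt r) := by
    intro r hr' n
    induction n with
    | zero => rw [pow_zero, one_mul, Nat.mod_eq_of_lt hr']
    | succ n ih =>
      rw [← ih, ← hf (pt (2 ^ n * r % 23)), dbl_rep hr (Nat.mod_lt _ (by norm_num))]
      congr 2
      rw [Nat.mul_mod_mod, pow_succ']
      ring_nf
  have key : ∀ i < 24, i = 23 ∨ i = 0 ∨ (sqBit i = true ∧ ∃ n < 11, i = 2 ^ n * 1 % 23) ∨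
      (sqBit i = false ∧ ∃ n < 11, i = 2 ^ n * 5 % 23) := by decide +kernel
  unfold orbVal
  conv_lhs => rw [← pt_idx q]
  rcases key _ (idx_lt q) with e | e | ⟨hs, n, -, e⟩ | ⟨hs, n, hn', e⟩
  · rw [if_pos e, e]
  · rw [if_neg (by omega), if_pos e, e]
  · rw [if_neg, if_neg, if_pos hs, e, hn 1 (by norm_num)]
    · intro h; rw [h] at hs; revert hs; decide +kernel
    · intro h; rw [h] at hs; revert hs; decide +kernel
  · rw [if_neg, if_neg, hs, if_neg (by simp), e, hn 5 (by norm_num)]
    · intro h
      have := (by decide +kernel : ∀ n < 11, 2 ^ n * 5 % 23 ≠ 0) n hn'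
      omega
    · intro h
      have := Nat.mod_lt (2 ^ n * 5) (show 23 > 0 by norm_num)
      omega

/-- The list constant on the orbits of doubling. -/
def orbList (s u p r : ℤ) : List ℤ := (List.range 24).map (orbVal s u p r)

theorem sqNorm_orbList (s u p r : ℤ) :
    sqNorm (vec (orbList s u p r)) = s ^ 2 + u ^ 2 + 11 * p ^ 2 + 11 * r ^ 2 := by
  rw [sqNorm, ← enc.symm.sum_comp]
  have h : ∀ i : Fin 24, vec (orbList s u p r) (enc.symm i) = orbVal s u p r i.val := fun i => by
    rw [orbList, vec_map_range]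
    exact congrArg (orbVal s u p r) (idx_pt i.isLt)
  simp only [h]
  simp [Fin.sum_univ_succ, orbVal, sqBit, List.range, List.range.loop]
  ring

/-- The mask constant on the orbits of doubling, from four bits. -/
def orbMask (m : ℕ) : ℕ :=
  (if m.testBit 0 then 8388608 else 0) ||| (if m.testBit 1 then 1 else 0) |||
    (if m.testBit 2 then sqMask else 0) |||
    (if m.testBit 3 then 8388606 ^^^ sqMask else 0)
where
  /-- The mask of the nonzero squares. -/
  sqMask : ℕ := ((List.range 11).map fun n => 2 ^ (2 ^ n % 23)).sum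

/-- Moves commuting with doubling that take the standard cross to each of the crosses fixed by it. -/
def crossW : List (List Mv) := [[], hW, hW ++ [eMv]]

/-- The candidates for members of the centralizer. -/
def cands : List (List Mv) :=
  (List.range 11).flatMap fun i => [[], [eMv]].flatMap fun s => crossW.map fun h =>
    List.replicate i bMv ++ s ++ h

/-- A fixed vector of norm 64 is, up to sign, the image of a unit list. -/
def covered (l : List ℤ) : Bool :=
  crossW.any fun h => [23, 0].any fun j =>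
    !differs (runMoves h (unitL j)) l || !differs (runMoves h (unitL j)) (l.map Neg.neg)

/-- The check on all small lists. -/
def boxOK : Bool :=
  allBelow 17 fun a => allBelow 17 fun b => allBelow 5 fun c => allBelow 5 fun d =>
    !(decide (((a : ℤ) - 8) ^ 2 + ((b : ℤ) - 8) ^ 2 + 11 * ((c : ℤ) - 2) ^ 2 + 11 * ((d : ℤ) - 2) ^ 2
      = 64) && leechB (vec (orbList ((a : ℤ) - 8) ((b : ℤ) - 8) ((c : ℤ) - 2) ((d : ℤ) - 2)))) ||
      covered (orbList ((a : ℤ) - 8) ((b : ℤ) - 8) ((c : ℤ) - 2) ((d : ℤ) - 2))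

theorem boxOK_true : boxOK = true := by decide +kernel

theorem crossW_ok : ∀ h ∈ crossW, h.all Mv.ok = true ∧ sameOn ([bMv] ++ h) (h ++ [bMv]) = true := by
  decide +kernel

theorem vec_eq_of_not_differs {l m : List ℤ} (h : differs l m = false) : vec l = vec m := by
  funext p
  simp only [differs, List.any_eq_false, List.mem_range, bne_iff_ne, not_not] at h
  exact h _ (idx_lt p)

theorem vec_neg (l : List ℤ) : vec (l.map Neg.neg) = -vec l := by
  funext p
  show (l.map Neg.neg).getD (idx p) 0 = -(l.getD (idx p) 0)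
  rw [show (0 : ℤ) = -0 from neg_zero.symm, List.getD_map, neg_zero]

theorem vec_orbList_of_invariant {τ : Equiv.Perm GolayPt} (hr : Rep enc τ dblTab) (f : GolayPt → ℤ)
    (hf : ∀ q, f (τ q) = f q) :
    f = vec (orbList (f (pt 23)) (f (pt 0)) (f (pt 1)) (f (pt 5))) := by
  funext q
  rw [orbList, vec_map_range]
  exact orbVal_eq hr f hf q

/-- The standard cross is carried by one of the listed moves to the cross of a fixed vector. -/
theorem exists_crossW {g : Co0} (hg : g * moveElt [bMv] = moveElt [bMv] * g) :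
    ∃ h ∈ crossW, PreservesCross ((moveElt h)⁻¹ * g) := by
  obtain ⟨τ, hτ, hc0, hr, hb⟩ := ok_mono (show (Mv.mono dblTab 0).ok = true by decide +kernel)
  change moveElt [bMv] = _ at hb
  have hfix : moveElt [bMv] • eightL none = eightL none := Subtype.ext (by
    rw [moveElt_eightL bMv_ok]
    exact ((congrArg vec (by decide +kernel :
      runMoves [bMv] (unitL (idx none)) = unitL (idx none))).trans (eight_eq_unitL none).symm))
  set f := ((g • eightL none : leechLattice) : GolayPt → ℤ) with hf
  have hinv : ∀ q, f (τ q) = f q := fun q => by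
    have h1 : moveElt [bMv] • g • eightL none = g • eightL none := by
      rw [smul_smul, ← hg, mul_smul, hfix]
    have h2 := congrFun (congrArg Subtype.val h1) q
    rw [hb, monoCo0_smul] at h2
    simp only [monoFun, mem_setOf24, Nat.zero_testBit, Bool.false_eq_true, if_false] at h2
    exact h2
  have hl := vec_orbList_of_invariant hr f hinv
  have hn : sqNorm f = 64 := by rw [hf, co0_norm]; exact sqNorm_eight none
  have hmem : f ∈ leechLattice := (g • eightL none).2
  generalize f (pt 23) = s at hl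
  generalize f (pt 0) = u at hl
  generalize f (pt 1) = p at hl
  generalize f (pt 5) = r at hl
  rw [hl, sqNorm_orbList] at hn
  rw [hl, ← leechB_iff] at hmem
  have hs : s ^ 2 < 9 ^ 2 ∧ u ^ 2 < 9 ^ 2 ∧ p ^ 2 < 3 ^ 2 ∧ r ^ 2 < 3 ^ 2 := by
    refine ⟨?_, ?_, ?_, ?_⟩ <;> nlinarith [sq_nonneg s, sq_nonneg u, sq_nonneg p, sq_nonneg r]
  simp only [sq_lt_sq, abs_lt] at hs
  norm_num at hs
  obtain ⟨⟨s1, s2⟩, ⟨u1, u2⟩, ⟨p1, p2⟩, ⟨r1, r2⟩⟩ := hs
  have hbox := boxOK_true
  simp only [boxOK, allBelow_iff] at hbox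
  have e : ∀ (x : ℤ) (k : ℕ), -(k : ℤ) - 1 < x → (((x + k).toNat : ℕ) : ℤ) - k = x := fun x k h => by
    omega
  have hb' := hbox (s + (8 : ℕ)).toNat (by omega) (u + (8 : ℕ)).toNat (by omega)
    (p + (2 : ℕ)).toNat (by omega) (r + (2 : ℕ)).toNat (by omega)
  have es := e s 8 (by omega)
  have eu := e u 8 (by omega)
  have ep := e p 2 (by omega)
  have er := e r 2 (by omega)
  push_cast at es eu ep er hb'
  simp only [es, eu, ep, er] at hb'
  simp only [hn, hmem, decide_true, Bool.and_self, Bool.not_true, Bool.false_or, covered,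
    List.any_eq_true, Bool.or_eq_true, Bool.not_eq_true'] at hb'
  obtain ⟨h, hh, j, hj, hjl⟩ := hb'
  have hok := (crossW_ok h hh).1
  have hj24 : j < 24 := by
    simp only [List.mem_cons, List.not_mem_nil, or_false] at hj
    omega
  have hje : ((moveElt h • eightL (pt j) : leechLattice) : GolayPt → ℤ) =
      vec (runMoves h (unitL j)) := by
    rw [moveElt_eightL hok, idx_pt hj24]
  refine ⟨h, hh, preservesCross_of_mem (q := none) ?_⟩
  rw [mul_smul]
  rcases hjl with e' | e'
  · have : g • eightL none = moveElt h • eightL (pt j) :=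
      Subtype.ext (by rw [hje, vec_eq_of_not_differs e', ← hf, hl])
    rw [this, inv_smul_smul]
    exact eightL_mem_stdCross _
  · have : g • eightL none = -(moveElt h • eightL (pt j)) :=
      Subtype.ext (by
        rw [AddSubgroup.coe_neg, hje, vec_eq_of_not_differs e', vec_neg, neg_neg, ← hf, hl])
    rw [this, co0_neg, inv_smul_smul]
    exact mem_stdCross_iff.mpr ⟨pt j, Or.inr rfl⟩

/-- Tables of the powers of doubling. -/
def dblPows : List ℕ :=
  (List.range 11).map fun i => (List.range 24).foldr (fun j acc => acc * 256 + iterApp dblTab i j) 0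

/-- The levels of the search. -/
def levB : List Level :=
  [(1, 11, [], []), (5, 11, [], []), (0, 1, [], []), (23, 1, codeRows, [])]

/-- Every monomial map commuting with doubling is among the candidates. -/
def monoOK : Bool :=
  allBelow 11 fun i => allBelow 16 fun m => !isCode (orbMask m) ||
    [[], [eMv]].any fun s =>
      sameUpToSign [Mv.mono (dblPows.getD i 0) (orbMask m)] (List.replicate i bMv ++ s)

theorem monoOK_true : monoOK = true := by decide +kernel

theorem levB_ok : levelsOK [] dblTab levB 0 = true ∧ search dblTab 1 dblPows levB [] = true := by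
  decide +kernel

theorem orbMask_spec : ∀ m < 16, orbMask m < 2 ^ 24 ∧ ∀ i < 24, (orbMask m).testBit i =
    orbVal (m.testBit 0) (m.testBit 1) (m.testBit 2) (m.testBit 3) i := by
  decide +kernel

theorem mono_cases {g : Co0} (hP : PreservesCross g) (hg : g * moveElt [bMv] = moveElt [bMv] * g) :
    ∃ i < 11, ∃ s ∈ ([[], [eMv]] : List (List Mv)), coElt (List.replicate i bMv ++ s) = projC g := by
  classical
  obtain ⟨τ, hτ, c, hc, rfl⟩ := eq_monoCo0 hP
  obtain ⟨σ, hσ, hc0, hr, hb⟩ := ok_mono (show (Mv.mono dblTab 0).ok = true by decide +kernel)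
  change moveElt [bMv] = _ at hb
  have h0 : setOf24 0 = (∅ : Finset GolayPt) := by decide +kernel
  rw [hb, monoCo0_mul, monoCo0_mul] at hg
  have hpair := @monoOf_injective (⟨_, mul_mem hσ hτ⟩, ⟨_, supports_symmDiff hc
      (setSystemAut_image_mem (inv_mem hτ : τ⁻¹ ∈ M24) hc0)⟩)
    (⟨_, mul_mem hτ hσ⟩, ⟨_, supports_symmDiff hc0
      (setSystemAut_image_mem (inv_mem hσ : σ⁻¹ ∈ M24) hc)⟩) hg
  have hc1 : σ * τ = τ * σ := congrArg (fun x => x.1.1) hpair
  have hc2 : c = c.image ⇑σ⁻¹ := by
    simpa [h0, symmDiff_empty', empty_symmDiff'] using congrArg (fun x => x.2.1) hpair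
  have hci : ∀ q, (decide (σ q ∈ c)) = decide (q ∈ c) := fun q => by
    refine decide_eq_decide.2 ?_
    conv_rhs => rw [hc2]
    rw [Finset.mem_image]
    exact ⟨fun h => ⟨σ q, h, perm_inv_apply σ q⟩, fun ⟨y, hy, e⟩ => by
      rwa [← e, perm_apply_inv]⟩
  obtain ⟨t, ht, hrt⟩ := search_sound (g := τ) hr (k := 1) (by rw [pow_one]; exact hc1.symm) hτ
    dblPows [] (by simp) levB [] (by simp [Agrees]) (by simpa [domMask] using levB_ok.1) levB_ok.2
  obtain ⟨i, hi, rfl⟩ := List.mem_iff_getElem.1 ht
  have hi' : i < 11 := by simpa [dblPows] using hi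
  rw [← List.getD_eq_getElem dblPows 0 hi] at hrt
  let b2n : Bool → ℕ := fun b => if b then 1 else 0
  let m := b2n (decide (pt 23 ∈ c)) + 2 * b2n (decide (pt 0 ∈ c)) + 4 * b2n (decide (pt 1 ∈ c)) +
    8 * b2n (decide (pt 5 ∈ c))
  have hbits : ∀ a b d e : Bool, (b2n a + 2 * b2n b + 4 * b2n d + 8 * b2n e) < 16 ∧
      (b2n a + 2 * b2n b + 4 * b2n d + 8 * b2n e).testBit 0 = a ∧
      (b2n a + 2 * b2n b + 4 * b2n d + 8 * b2n e).testBit 1 = b ∧
      (b2n a + 2 * b2n b + 4 * b2n d + 8 * b2n e).testBit 2 = d ∧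
      (b2n a + 2 * b2n b + 4 * b2n d + 8 * b2n e).testBit 3 = e := by decide
  obtain ⟨hm, m0, m1, m2, m3⟩ := hbits (decide (pt 23 ∈ c)) (decide (pt 0 ∈ c)) (decide (pt 1 ∈ c))
    (decide (pt 5 ∈ c))
  have hcm : setOf24 (orbMask m) = c := by
    ext q
    rw [mem_setOf24, (orbMask_spec m hm).2 _ (idx_lt q), m0, m1, m2, m3,
      ← orbVal_eq hr (fun q => decide (q ∈ c)) hci q, decide_eq_true_eq]
  have hcode : isCode (orbMask m) = true := by
    have h := (mem_supports_iff c).1 hc
    rwa [setOf24_inj (maskOf_lt _) (orbMask_spec m hm).1 ((setOf24_maskOf c).trans hcm.symm)] at h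
  have hchk := monoOK_true
  simp only [monoOK, allBelow_iff, Bool.or_eq_true, Bool.not_eq_true', List.any_eq_true] at hchk
  rcases hchk i hi' m hm with h | ⟨s, hs, hsame⟩
  · rw [hcode] at h; simp at h
  have hok : (Mv.mono (dblPows.getD i 0) (orbMask m)).ok = true := by
    simp only [Mv.ok, hcode, Bool.and_true]
    exact (by decide +kernel : ∀ i < 11, (tableValid (dblPows.getD i 0) &&
      preservesCode (dblPows.getD i 0)) = true) i hi'
  refine ⟨i, hi', s, hs, ?_⟩
  rw [← coElt_eq (by simpa using hok) ?_ hsame, coElt, moveElt_mono hok hτ hrt hc hcm]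
  exact (by decide +kernel : ∀ i < 11, ∀ s ∈ ([[], [eMv]] : List (List Mv)),
    (List.replicate i bMv ++ s).all Mv.ok = true) i hi' s hs

/-- The centralizer of the second generator. -/
theorem centralizer_bOne {x : Spor.Co1} (hx : x * bOne = bOne * x) :
    ∃ w ∈ cands, x = coElt w := by
  obtain ⟨g, rfl⟩ := QuotientGroup.mk'_surjective (Subgroup.center Co0) x
  have hg : g * moveElt [bMv] = moveElt [bMv] * g :=
    commute_of_projC (m := 11) (by decide) moveElt_b_pow hx
  obtain ⟨h, hh, hP⟩ := exists_crossW hg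
  obtain ⟨hok, hcomm⟩ := crossW_ok h hh
  have hb : Commute (moveElt h) (moveElt [bMv]) := by
    have := moveElt_eq (by rw [List.all_append, bMv_ok, hok]; rfl)
      (by rw [List.all_append, bMv_ok, hok]; rfl) hcomm
    rw [moveElt_append bMv_ok hok, moveElt_append hok bMv_ok] at this
    exact this
  obtain ⟨i, hi, s, hs, e⟩ := mono_cases hP ((hb.inv_left.mul_left hg).eq)
  refine ⟨List.replicate i bMv ++ s ++ h, ?_, ?_⟩
  · simp only [cands, List.mem_flatMap, List.mem_map, List.mem_range]
    exact ⟨i, hi, s, hs, h, hh, rfl⟩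
  · rw [coElt_append ((by decide +kernel : ∀ i < 11, ∀ s ∈ ([[], [eMv]] : List (List Mv)),
      (List.replicate i bMv ++ s).all Mv.ok = true) i hi s hs) hok, e, coElt, ← map_mul,
      mul_inv_cancel_left]
    rfl

end CfsgLib.CoOneOut
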