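import Cfsg.Agent.Leech.CrossMax

/-!
Data for the automorphisms of the first Conway group: three generators, relations, and words for
monomial elements.
-/

set_option autoImplicit false

namespace CfsgLib.CoOneOut

open CfsgLib.Leech

/-- The identity table. -/
def idTab : ℕ := 566073426779046459040877649791461066728553822781039575296

/-- The translation table. -/
def shiftTab : ℕ := 563966621022008034872610010459283104912152472845665108481

/-- The doubling table. -/
def dblTab : ℕ := 565976893111451123696566449653690447839358251609054511616

/-- The table of the projective inversion. -/
def invTab : ℕ := 100282430913604148406615130338594619360710202502092311

/-- The table of the cube twist. -/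
def twistTab : ℕ := 565306790265992222776667128068639878484303610033453011456

/-- The dodecad fixed by doubling. -/
def dodMask : ℕ := 16436384

/-- The first generator, of order 23. -/
def aMv : Mv := .mono shiftTab 0

/-- The second generator, of order 11. -/
def bMv : Mv := .mono dblTab 0

/-- The sign change on the dodecad. -/
def eMv : Mv := .mono idTab dodMask

/-- Negation. -/
def negMv : Mv := .mono idTab 16777215

/-- A map commuting with doubling that moves the standard cross. -/
def hW : List Mv :=
  [.mono 491458547635171099220566150748483930217233207572553859081 11977944,
   .xi,
   .mono 442994507431481888496079301004491935200581458893650069511 0,
   .xi,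
   .mono 417988915937491457238313202318652889614547159552304419341 0,
   .xi,
   .mono 466649038485540032654069792340363262271313301670461702416 0]

/-- The third generator. -/
def cW : List Mv := List.replicate 3 bMv ++ hW

/-- Words in the first and third generators with monomial values. -/
def monoWords : List (List (Option ℕ) × ℕ × ℕ) :=
  [([none, some 7, none, some 14, none, some 4, none, some 6, none, none, none, some 18, none, none, some 14, none, none, some 2, none, none, some 19, none, none],
    246926357747019629883935262056385508394583449498537036811, 1646562),
   ([none, some 12, none, some 7, none, some 0, none, some 16, none, none, none, some 0, none, none, some 4, none, none, some 1, none, none, some 22, none, none],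
    221735208062273201026678417620019186897511227262812032516, 16637048),
   ([none, some 8, none, some 16, none, some 3, none, some 1, none, none, none, some 2, none, none, some 15, none, none, some 13, none, none, some 12, none, none],
    369434699501699565309962989010464589951885596047880749591, 8840506),
   ([none, some 21, none, some 12, none, some 3, none, some 1, none, none, none, some 17, none, none, some 4, none, none, some 8, none, none, some 0, none, none],
    123470278891427310113965071348766126281383986705982100501, 11644738),
   ([none, some 15, none, some 17, none, some 10, none, some 3, none, none, none, some 8, none, none, some 5, none, none, some 21, none, none, some 16, none, none],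
    515789146139498565855481023504308368631604579891405524241, 14122635)]

/-- The words for the projective inversion and the cube twist, in translations and those values. -/
def invCombo : List (ℕ ⊕ ℕ) := [.inl 6, .inr 4, .inl 14, .inr 1, .inl 14]

/-- See `invCombo`. -/
def twistCombo : List (ℕ ⊕ ℕ) := [.inl 8, .inr 0, .inl 2, .inl 1, .inr 2, .inl 11, .inl 21, .inr 3, .inl 6]

/-- The sign of the projective inversion word. -/
def invSign : ℕ := 4434717

/-- The sign of the cube twist word. -/
def twistSign : ℕ := 8077824

/-- The sign change that is the square of the projective inversion word. -/
def sqSign : ℕ := 13707171

/-- How to grow a spanning list of code words: generator and source. -/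
def spanSteps : List (ℕ × ℕ) := [(0, 1), (2, 1), (0, 2), (1, 2), (2, 2), (0, 3), (2, 3), (0, 4), (2, 4), (0, 6)]

/-- The code rows in that list. -/
def rowSel : List ℕ := [2161, 1505, 2855, 3917, 2708, 1777, 494, 813, 1515, 978, 3703, 3859]

end CfsgLib.CoOneOut
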