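import Cfsg.Agent.CoOneOut.CentA
import Cfsg.Agent.Mathieu.M24Order

/-!
Three elements generate the first Conway group.
-/

set_option autoImplicit false

namespace CfsgLib.CoOneOut

open Cfsg CfsgLib.Mathieu CfsgLib.Leech CfsgLib.CoOneInv
open scoped symmDiff

/-- The subgroup generated by the first and third generators. -/
noncomputable def genL : Subgroup Spor.Co1 := Subgroup.closure {aOne, cOne}

/-- A move list landing in that subgroup. -/
def InL (w : List Mv) : Prop := w.all Mv.ok = true ∧ coElt w ∈ genL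

theorem InL.append {u v : List Mv} (hu : InL u) (hv : InL v) : InL (u ++ v) :=
  ⟨by rw [List.all_append, hu.1, hv.1]; rfl, coElt_append hu.1 hv.1 ▸ mul_mem hv.2 hu.2⟩

theorem inL_nil : InL [] := ⟨rfl, coElt_nil ▸ one_mem _⟩

theorem InL.of_same {u v : List Mv} (hu : InL u) (hv : v.all Mv.ok = true)
    (h : sameUpToSign u v = true) : InL v := ⟨hv, coElt_eq hu.1 hv h ▸ hu.2⟩

theorem inL_a : InL [aMv] := ⟨aMv_ok, Subgroup.subset_closure (Set.mem_insert _ _)⟩

theorem cW_ok : cW.all Mv.ok = true := by decide +kernel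

theorem inL_c : InL cW := ⟨cW_ok, Subgroup.subset_closure (Set.mem_insert_of_mem _ rfl)⟩

theorem inL_flatten : ∀ (l : List (List Mv)), (∀ w ∈ l, InL w) → InL l.flatten
  | [], _ => inL_nil
  | w :: l, h => by
    rw [List.flatten_cons]
    exact (h w List.mem_cons_self).append (inL_flatten l fun v hv => h v (List.mem_cons_of_mem _ hv))

theorem inL_a_pow (n : ℕ) : InL (List.replicate n aMv) := by
  induction n with
  | zero => exact inL_nil
  | succ n ih => exact inL_a.append ih

/-- The moves of a letter. -/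
def letterW : Option ℕ → List Mv
  | none => cW
  | some n => List.replicate n aMv

/-- The moves of a word. -/
def wordW (W : List (Option ℕ)) : List Mv := (W.map letterW).flatten

theorem inL_wordW (W : List (Option ℕ)) : InL (wordW W) := by
  refine inL_flatten _ fun w hw => ?_
  obtain ⟨x, -, rfl⟩ := List.mem_map.1 hw
  cases x with
  | none => exact inL_c
  | some n => exact inL_a_pow n

/-- The monomial move at a position of the word table. -/
def monoMv (i : ℕ) : List Mv :=
  match monoWords[i]? with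
  | some (_, t, s) => [Mv.mono t s]
  | none => []

theorem monoWords_ok : ∀ x ∈ monoWords, [Mv.mono x.2.1 x.2.2].all Mv.ok = true ∧
    sameUpToSign (wordW x.1) [Mv.mono x.2.1 x.2.2] = true := by
  decide +kernel

theorem inL_monoMv (i : ℕ) : InL (monoMv i) := by
  unfold monoMv
  rcases e : monoWords[i]? with _ | ⟨W, t, s⟩
  · exact inL_nil
  · obtain ⟨hok, hs⟩ := monoWords_ok _ (List.mem_of_getElem? e)
    exact (inL_wordW W).of_same hok hs

/-- The moves of a combination. -/
def comboW (W : List (ℕ ⊕ ℕ)) : List Mv :=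
  (W.map (Sum.elim (fun n => List.replicate n aMv) monoMv)).flatten

theorem inL_comboW (W : List (ℕ ⊕ ℕ)) : InL (comboW W) := by
  refine inL_flatten _ fun w hw => ?_
  obtain ⟨x, -, rfl⟩ := List.mem_map.1 hw
  rcases x with n | i
  exacts [inL_a_pow n, inL_monoMv i]

theorem inL_inv : InL [Mv.mono invTab invSign] :=
  (inL_comboW invCombo).of_same (by decide +kernel) (by decide +kernel)

theorem inL_twist : InL [Mv.mono twistTab twistSign] :=
  (inL_comboW twistCombo).of_same (by decide +kernel) (by decide +kernel)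

theorem inL_sq : InL [Mv.mono idTab sqSign] :=
  (inL_inv.append inL_inv).of_same (by decide +kernel) (by decide +kernel)

/-- Its preimage in `Cfsg.Co0`. -/
noncomputable def genLL : Subgroup Co0 := genL.comap projC

theorem negCo0_mem_genLL : negCo0 ∈ genLL := by
  show projC negCo0 ∈ genL
  rw [projC_negCo0]; exact one_mem _

theorem InL.mem {w : List Mv} (h : InL w) : moveElt w ∈ genLL := h.2

/-- The permutation lifts to a monomial member of `genLL`. -/
def Lifts (τ : Equiv.Perm GolayPt) : Prop :=
  ∃ (hτ : τ ∈ M24) (c : Finset GolayPt) (hc : c ∈ supports (golayCode : Set (GolayPt → ZMod 2))),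
    monoCo0 τ hτ c hc ∈ genLL

theorem Lifts.mul {τ σ : Equiv.Perm GolayPt} (h : Lifts τ) (h' : Lifts σ) : Lifts (τ * σ) := by
  obtain ⟨hτ, c, hc, hm⟩ := h
  obtain ⟨hσ, d, hd, hn⟩ := h'
  have := mul_mem hn hm
  rw [monoCo0_mul] at this
  exact ⟨_, _, _, this⟩

theorem lifts_of_inL {t s : ℕ} {σ : Equiv.Perm GolayPt} (hr : Rep enc σ t)
    (h : InL [Mv.mono t s]) : Lifts σ := by
  obtain ⟨τ, hτ, hc, hr', e⟩ := ok_mono (show (Mv.mono t s).ok = true by simpa using h.1)
  obtain rfl := Rep.unique hr' hr
  exact ⟨hτ, _, hc, e ▸ h.mem⟩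

theorem lifts_one : Lifts 1 :=
  ⟨one_mem _, _, univ_mem_supports, negCo0_mem_genLL⟩

theorem lifts_pow {τ : Equiv.Perm GolayPt} (h : Lifts τ) : ∀ n, Lifts (τ ^ n)
  | 0 => lifts_one
  | n + 1 => pow_succ τ n ▸ (lifts_pow h n).mul h

theorem lifts_all {τ : Equiv.Perm GolayPt} (hτ : τ ∈ M24) : Lifts τ := by
  rw [← m24Gen_eq, m24Gen] at hτ
  induction hτ using Subgroup.closure_induction with
  | mem x hx =>
    rcases hx with rfl | rfl | rfl
    · exact lifts_of_inL (rep_of_tableOK shiftOne (fun _ => rfl) (by decide +kernel)) inL_a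
    · exact lifts_of_inL (rep_of_tableOK projInvFun (fun _ => rfl) (by decide +kernel)) inL_inv
    · exact lifts_of_inL
        (rep_of_tableOK cubeTwistFun (fun p => Equiv.ofBijective_apply (f := cubeTwistFun) _ p)
          (by decide +kernel)) inL_twist
  | one => exact lifts_one
  | mul a b _ _ ha hb => exact ha.mul hb
  | inv a _ ha =>
    obtain ⟨n, hn⟩ := Submonoid.mem_powers_iff _ _ |>.1
      (mem_powers_iff_mem_zpowers.2 (inv_mem (Subgroup.mem_zpowers a)))
    exact hn ▸ lifts_pow ha n

/-- The mask gives a sign change in `genLL`. -/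
def SignIn (M : ℕ) : Prop :=
  ∃ h : setOf24 M ∈ supports (golayCode : Set (GolayPt → ZMod 2)),
    monoCo0 1 (one_mem _) (setOf24 M) h ∈ genLL

theorem SignIn.xor {a b : ℕ} (ha : SignIn a) (hb : SignIn b) : SignIn (a ^^^ b) := by
  obtain ⟨ha, han⟩ := ha
  obtain ⟨hb, hbn⟩ := hb
  refine ⟨setOf24_xor a b ▸ supports_symmDiff ha hb, ?_⟩
  have := mul_mem han hbn
  rw [monoCo0_mul] at this
  convert this using 1
  exact monoCo0_congr (mul_one _).symm (by rw [setOf24_xor]; simp)

theorem SignIn.push {M : ℕ} (h : SignIn M) {σ : Equiv.Perm GolayPt} (hσ : σ ∈ M24) {t : ℕ}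
    (hr : Rep enc σ t) : SignIn (push t 24 M) := by
  obtain ⟨hc, hm⟩ := h
  obtain ⟨hτ, d, hd, hn⟩ := lifts_all (inv_mem hσ)
  refine ⟨image_setOf24 hr M ▸ setSystemAut_image_mem hσ hc, ?_⟩
  have e : monoCo0 1 (one_mem _) ((setOf24 M).image ⇑σ) (setSystemAut_image_mem hσ hc) =
      monoCo0 σ⁻¹ hτ d hd * monoCo0 1 (one_mem _) (setOf24 M) hc * (monoCo0 σ⁻¹ hτ d hd)⁻¹ := by
    rw [eq_mul_inv_iff_mul_eq, monoCo0_mul, monoCo0_mul]
    exact monoCo0_congr (by simp) (by simp [symmDiff_comm])
  have := mul_mem (mul_mem hn hm) (inv_mem hn)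
  rw [← e] at this
  convert this using 1
  exact monoCo0_congr rfl (image_setOf24 hr M).symm

/-- The generator tables of the spanning procedure. -/
def genTab (g : ℕ) : ℕ := [shiftTab, invTab].getD g twistTab

/-- The spanning list. -/
def spanL (steps : List (ℕ × ℕ)) (start : List ℕ) : List ℕ :=
  steps.foldl (fun acc x => acc ++ [push (genTab x.1) 24 (acc.getD x.2 0)]) start

theorem signIn_full : SignIn 16777215 := by
  refine ⟨setOf24_mem_supports isCode_full, ?_⟩
  convert negCo0_mem_genLL
  exact monoCo0_congr rfl (by decide +kernel)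

theorem signIn_sq : SignIn sqSign := by
  have h := inL_sq.mem
  obtain ⟨hok, -⟩ := inL_sq
  refine ⟨setOf24_mem_supports (by decide +kernel), ?_⟩
  rwa [moveElt_mono (by simpa using hok) (one_mem _)
    (rep_of_tableOK id (fun _ => rfl) (by decide +kernel)) _ rfl] at h

theorem signIn_spanL : ∀ (steps : List (ℕ × ℕ)) (start : List ℕ), (∀ M ∈ start, SignIn M) →
    ∀ M ∈ spanL steps start, SignIn M
  | [], _, h => h
  | x :: steps, start, h => by
    intro M hM
    refine signIn_spanL steps _ (fun N hN => ?_) M hM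
    rcases List.mem_append.1 hN with hN | hN
    · exact h N hN
    rw [List.mem_singleton.1 hN]
    have hsrc : SignIn (start.getD x.2 0) := by
      by_cases hlt : x.2 < start.length
      · rw [List.getD_eq_getElem _ _ hlt]; exact h _ (List.getElem_mem hlt)
      · rw [List.getD_eq_default _ _ (not_lt.1 hlt)]
        simpa using signIn_full.xor signIn_full
    obtain ⟨hv, hp⟩ : tableValid (genTab x.1) = true ∧ preservesCode (genTab x.1) = true := by
      rcases x.1 with _ | _ | n
      exacts [by decide +kernel, by decide +kernel,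
        (by decide +kernel : tableValid twistTab = true ∧ preservesCode twistTab = true)]
    obtain ⟨σ, hr⟩ := exists_rep_of_valid hv
    exact hsrc.push (mem_M24_of_table hr hp) hr

theorem signIn_all {c : Finset GolayPt}
    (hc : c ∈ supports (golayCode : Set (GolayPt → ZMod 2))) :
    monoCo0 1 (one_mem _) c hc ∈ genLL := by
  have h0 : SignIn 0 := by simpa using signIn_full.xor signIn_full
  have hx : ∀ a b, SignIn a → SignIn b → SignIn (a ^^^ b) := fun a b => SignIn.xor
  have hspan := signIn_spanL spanSteps [16777215, sqSign] (fun M hM => by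
    simp only [List.mem_cons, List.not_mem_nil, or_false] at hM
    rcases hM with rfl | rfl
    exacts [signIn_full, signIn_sq])
  have hrows : ∀ r ∈ codeRows, SignIn r := by
    have hsel : rowSel.map (xorSel (spanL spanSteps [16777215, sqSign])) = codeRows := by
      decide +kernel
    intro r hr
    rw [← hsel, List.mem_map] at hr
    obtain ⟨s, -, rfl⟩ := hr
    exact xorSel_induction SignIn h0 hx _ _ hspan
  obtain ⟨m, -, hm⟩ := exists_codeMask ((mem_supports_iff c).1 hc)
  obtain ⟨h, hn⟩ : SignIn (maskOf c) := by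
    rw [hm]; exact xorSel_induction SignIn h0 hx _ _ hrows
  convert hn using 1
  exact monoCo0_congr rfl (setOf24_maskOf c).symm

theorem monoGroup_le_genLL : monoGroup ≤ genLL := by
  rw [monoGroup, Subgroup.closure_le]
  rintro g ⟨τ, hτ, c, hc, rfl⟩
  obtain ⟨hτ', d, hd, hm⟩ := lifts_all hτ
  have := mul_mem (signIn_all (supports_symmDiff hc hd)) hm
  rw [monoCo0_mul] at this
  refine (congrArg (· ∈ genLL) ?_).mpr this
  exact monoCo0_congr (mul_one τ).symm (by simp)

theorem moveElt_cW_not_mem : moveElt cW ∉ monoGroup := fun h => by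
  have h1 := mem_monoGroup_iff.1 h (eightL none) (eightL_mem_stdCross none)
  rw [moveElt_eightL cW_ok] at h1
  obtain ⟨p, e | e⟩ := mem_stdCross_iff.1 h1
  · refine vec_ne ?_ (e.trans (eight_eq_unitL p))
    revert p
    decide +kernel
  · have hm : -eight p = vec ((unitL (idx p)).map Neg.neg) := by
      rw [eight_eq_unitL p]
      funext q
      show -((unitL (idx p)).getD (idx q) 0) = ((unitL (idx p)).map Neg.neg).getD (idx q) 0
      rw [show (0 : ℤ) = -0 from neg_zero.symm, List.getD_map, neg_zero]
    refine vec_ne ?_ (e.trans hm)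
    clear e hm h1 h
    revert p
    decide +kernel

theorem genL_eq_top : genL = ⊤ := by
  have h : genLL = ⊤ := monoGroup_isCoatom.2 genLL
    (lt_of_le_of_ne monoGroup_le_genLL fun e => moveElt_cW_not_mem (e ▸ inL_c.mem))
  refine (Subgroup.eq_top_iff' _).2 fun x => ?_
  obtain ⟨g, rfl⟩ := QuotientGroup.mk'_surjective (Subgroup.center Co0) x
  exact (h ▸ Subgroup.mem_top g : g ∈ genLL)

end CfsgLib.CoOneOut
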