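import Cfsg.Agent.CoOneOut.CentB
import Cfsg.Agent.CoOneOut.Gen
import Cfsg.Agent.SporadicOut.Criterion

/-!
Every automorphism of the first Conway group is inner.
-/

set_option autoImplicit false

namespace CfsgLib.CoOneOut

open Cfsg CfsgLib.Mathieu CfsgLib.Leech CfsgLib.CoOneInv CfsgLib.SporadicOut

/-- The inverse of the first generator as a move. -/
def aInvMv : Mv := .mono 565977270196090167975255165272110459093503235228275114006 0

theorem aInvMv_ok : [aInvMv].all Mv.ok = true := by decide +kernel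

theorem coElt_aInvMv : coElt [aInvMv] = aOne ^ 22 := by
  rw [aOne, ← coElt_pow aMv_ok]
  exact coElt_eq aInvMv_ok (ok_replicate aMv_ok _) (by decide +kernel)

/-- The relations: the exponents and the order. -/
def rels : List (List ℕ × ℕ) := [([0], 3), ([1], 15), ([2, 3, 9], 8)]

/-- The moves of a product of the form `x ^ i` then `y`. -/
def prodW (X Y : List Mv) (ex : List ℕ) : List Mv :=
  (ex.map fun i => (List.replicate i X).flatten ++ Y).flatten

/-- The moves of a relation. -/
def relW (X Y : List Mv) (r : List ℕ × ℕ) : List Mv :=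
  (List.replicate r.2 (prodW X Y r.1)).flatten

/-- The product of a relation. -/
def relVal {G : Type*} [Group G] (x y : G) : List ℕ → G
  | [] => 1
  | i :: ex => relVal x y ex * (y * x ^ i)

theorem map_relVal {G : Type*} [Group G] (f : G →* G) (x y : G) :
    ∀ ex, f (relVal x y ex) = relVal (f x) (f y) ex
  | [] => map_one f
  | i :: ex => by simp only [relVal, map_mul, map_pow, map_relVal f x y ex]

theorem prodW_spec {X Y : List Mv} (hX : X.all Mv.ok = true) (hY : Y.all Mv.ok = true) :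
    ∀ ex, (prodW X Y ex).all Mv.ok = true ∧ coElt (prodW X Y ex) = relVal (coElt X) (coElt Y) ex
  | [] => ⟨rfl, coElt_nil⟩
  | i :: ex => by
    obtain ⟨h1, h2⟩ := prodW_spec hX hY ex
    have hh : ((List.replicate i X).flatten ++ Y).all Mv.ok = true := by
      rw [List.all_append, ok_replicate hX, hY]; rfl
    refine ⟨?_, ?_⟩
    · simp only [prodW, List.map_cons, List.flatten_cons, List.all_append, Bool.and_eq_true]
      exact ⟨by simpa only [List.all_append, Bool.and_eq_true] using hh, h1⟩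
    · show coElt (((List.replicate i X).flatten ++ Y) ++ prodW X Y ex) = _
      rw [coElt_append hh h1, coElt_append (ok_replicate hX i) hY, coElt_pow hX]
      exact congrArg (· * _) h2

theorem relW_spec {X Y : List Mv} (hX : X.all Mv.ok = true) (hY : Y.all Mv.ok = true)
    (r : List ℕ × ℕ) : (relW X Y r).all Mv.ok = true ∧
      coElt (relW X Y r) = relVal (coElt X) (coElt Y) r.1 ^ r.2 := by
  obtain ⟨h1, h2⟩ := prodW_spec hX hY r.1
  exact ⟨ok_replicate h1 _, by rw [relW, coElt_pow h1, h2]⟩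

theorem rels_hold : ∀ r ∈ rels, relVal aOne cOne r.1 ^ r.2 = 1 := by
  intro r hr
  obtain ⟨h1, h2⟩ := relW_spec aMv_ok cW_ok r
  rw [aOne, cOne, ← h2, ← coElt_nil]
  exact coElt_eq h1 rfl ((by decide +kernel :
    ∀ r ∈ rels, sameUpToSign (relW [aMv] cW r) [] = true) r hr)

/-- Some relation fails at the pair. -/
def breaks (X Y : List Mv) : Bool :=
  rels.any fun r => [23, 0, 1].any fun j => movesUnit (relW X Y r) j

theorem breaks_table :
    (allBelow 66 fun i => i == 19 || breaks [aMv] (cands.getD i [])) = true ∧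
      (allBelow 66 fun i => breaks [aInvMv] (cands.getD i [])) = true := by
  decide +kernel

theorem cands_ok : ∀ w ∈ cands, w.all Mv.ok = true := by decide +kernel

theorem cands_length : cands.length = 66 := by decide +kernel

theorem coElt_cands : coElt (cands.getD 19 []) = cOne := by
  refine coElt_eq (cands_ok _ ?_) cW_ok (by decide +kernel)
  rw [List.getD_eq_getElem cands [] (by rw [cands_length]; norm_num)]
  exact List.getElem_mem _

theorem b_mul_a : bOne * aOne = aOne ^ 12 * bOne := by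
  rw [aOne, bOne, ← coElt_append aMv_ok bMv_ok, ← coElt_pow aMv_ok,
    ← coElt_append bMv_ok (ok_replicate aMv_ok 12)]
  exact coElt_eq (by decide +kernel) (by decide +kernel) (by decide +kernel)

theorem a_mul_b : aOne * bOne = bOne * aOne ^ 2 := by
  rw [aOne, bOne, ← coElt_append bMv_ok aMv_ok, ← coElt_pow aMv_ok,
    ← coElt_append (ok_replicate aMv_ok 2) bMv_ok]
  exact coElt_eq (by decide +kernel) (by decide +kernel) (by decide +kernel)

theorem b_mul_c : bOne * cOne = cOne * bOne := by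
  rw [cOne, bOne, ← coElt_append cW_ok bMv_ok, ← coElt_append bMv_ok cW_ok]
  exact coElt_eq (by decide +kernel) (by decide +kernel) (by decide +kernel)

theorem pow_pow_conj (m k : ℕ) :
    bOne ^ m * aOne ^ k * (bOne ^ m)⁻¹ = aOne ^ (k * 12 ^ m) := by
  induction m generalizing k with
  | zero => simp
  | succ m ih =>
    have h1 : bOne * aOne ^ k * bOne⁻¹ = aOne ^ (12 * k) := by
      rw [← conj_pow, b_mul_a, mul_inv_cancel_right, ← pow_mul]
    rw [pow_succ, mul_inv_rev, show bOne ^ m * bOne * aOne ^ k * (bOne⁻¹ * (bOne ^ m)⁻¹) =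
      bOne ^ m * (bOne * aOne ^ k * bOne⁻¹) * (bOne ^ m)⁻¹ by group, h1, ih]
    congr 1
    ring

theorem pow_a_mul_b (j : ℕ) : aOne ^ j * bOne = bOne * aOne ^ (2 * j) := by
  induction j with
  | zero => simp
  | succ j ih =>
    rw [pow_succ, mul_assoc, a_mul_b, ← mul_assoc, ih, mul_assoc, ← pow_add, Nat.mul_succ]

theorem aOne_pow_mod (n : ℕ) : aOne ^ (n % 23) = aOne ^ n := by
  conv_rhs => rw [← pow_mod_orderOf, orderOf_aOne]

/-- Every automorphism is inner. -/
theorem out_coOne : Nat.card (Cfsg.Out Spor.Co1) = 1 := by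
  classical
  have := finite_Co1
  let gens : Fin 3 → Spor.Co1 := ![aOne, bOne, cOne]
  have hgen : Subgroup.closure (Set.range gens) = ⊤ := by
    rw [eq_top_iff, ← genL_eq_top, genL]
    refine Subgroup.closure_mono ?_
    rintro x (rfl | rfl)
    exacts [⟨0, rfl⟩, ⟨2, rfl⟩]
  refine card_out_eq_one gens hgen fun φ => ?_
  -- first generator into its own group
  have hφo : orderOf (φ aOne) = 23 := by rw [MulEquiv.orderOf_eq, orderOf_aOne]
  let P1 : Sylow 23 Spor.Co1 := Sylow.ofCard _ (card_zpowers_sylow hφo)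
  let P2 : Sylow 23 Spor.Co1 := Sylow.ofCard _ (card_zpowers_sylow orderOf_aOne)
  obtain ⟨g1, hg1⟩ := MulAction.exists_smul_eq Spor.Co1 P1 P2
  have hmem : g1 * φ aOne * g1⁻¹ ∈ Subgroup.zpowers aOne := by
    have h2 : g1 * φ aOne * g1⁻¹ ∈ (↑(g1 • P1) : Subgroup Spor.Co1) := by
      rw [Sylow.coe_subgroup_smul]
      exact Subgroup.smul_mem_pointwise_smul (φ aOne) (MulAut.conj g1) _ (Subgroup.mem_zpowers _)
    rw [hg1] at h2
    exact h2
  obtain ⟨k, hk, hka⟩ : ∃ k < 23, aOne ^ k = g1 * φ aOne * g1⁻¹ := by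
    obtain ⟨k, hk, he⟩ := Finset.mem_image.1 (mem_zpowers_iff_mem_range_orderOf.1 hmem)
    exact ⟨k, by simpa [orderOf_aOne] using hk, he⟩
  have hk0 : k ≠ 0 := by
    rintro rfl
    rw [pow_zero, eq_comm, conj_eq_one_iff] at hka
    rw [hka, orderOf_one] at hφo
    norm_num at hφo
  -- the exponent becomes 1 or 22
  obtain ⟨m, -, hm⟩ := (by decide +kernel :
    ∀ k < 23, k ≠ 0 → ∃ m < 11, k * 12 ^ m % 23 = 1 ∨ k * 12 ^ m % 23 = 22) k hk hk0
  let ψ : MulAut Spor.Co1 := MulAut.conj (bOne ^ m * g1) * φ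
  obtain ⟨e, he, hψa⟩ : ∃ e, (e = 1 ∨ e = 22) ∧ ψ aOne = aOne ^ e := by
    refine ⟨k * 12 ^ m % 23, hm, ?_⟩
    rw [aOne_pow_mod, ← pow_pow_conj, hka]
    simp only [ψ, MulAut.mul_apply, MulAut.conj_apply, mul_inv_rev, mul_assoc]
  -- the second generator
  obtain ⟨i, hi, hib⟩ : ∃ i < 23, ψ bOne = bOne * aOne ^ i := by
    have h1 : ψ bOne * aOne ^ e = (aOne ^ e) ^ 12 * ψ bOne := by
      rw [← hψa, ← map_pow, ← map_mul, ← map_mul, b_mul_a]
    have h2 : bOne * aOne ^ e = (aOne ^ e) ^ 12 * bOne := by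
      have h := pow_pow_conj 1 e
      rw [pow_one, pow_one, mul_inv_eq_iff_eq_mul] at h
      rw [h, ← pow_mul]
    have h3 : (bOne⁻¹ * ψ bOne) * aOne ^ e = aOne ^ e * (bOne⁻¹ * ψ bOne) := by
      rw [mul_assoc, h1, ← mul_assoc, ← mul_assoc]
      congr 1
      rw [eq_mul_inv_iff_mul_eq, mul_assoc, ← h2, inv_mul_cancel_left]
    have h4 : (bOne⁻¹ * ψ bOne) * aOne = aOne * (bOne⁻¹ * ψ bOne) := by
      have : (aOne ^ e) ^ e = aOne := by
        rw [← pow_mul, ← aOne_pow_mod]
        rcases he with rfl | rfl <;> exact pow_one aOne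
      conv_lhs => rw [← this]
      conv_rhs => rw [← this]
      exact (Commute.pow_right h3 e).eq
    obtain ⟨i, hi, hie⟩ := Finset.mem_image.1
      (mem_zpowers_iff_mem_range_orderOf.1 (centralizer_aOne h4))
    exact ⟨i, by simpa [orderOf_aOne] using hi, by rw [hie, mul_inv_cancel_left]⟩
  obtain ⟨j, -, hj⟩ := (by decide +kernel : ∀ i < 23, ∃ j < 23, (2 * j + i) % 23 = j) i hi
  let χ : MulAut Spor.Co1 := MulAut.conj (aOne ^ j) * ψ
  have hχb : χ bOne = bOne := by
    show aOne ^ j * ψ bOne * (aOne ^ j)⁻¹ = bOne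
    rw [hib, mul_inv_eq_iff_eq_mul, ← mul_assoc, pow_a_mul_b, mul_assoc, ← pow_add, ← aOne_pow_mod,
      hj]
  have hχa : χ aOne = aOne ^ e := by
    show aOne ^ j * ψ aOne * (aOne ^ j)⁻¹ = aOne ^ e
    rw [hψa, ← pow_add, Nat.add_comm, pow_add, mul_inv_cancel_right]
  -- the third generator
  have hcb : χ cOne * bOne = bOne * χ cOne := by
    rw [← hχb, ← map_mul, ← map_mul, b_mul_c]
  obtain ⟨w, hw, hwc⟩ := centralizer_bOne hcb
  obtain ⟨n, hn, rfl⟩ := List.mem_iff_getElem.1 hw
  rw [← List.getD_eq_getElem cands [] hn] at hwc hw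
  have hn' : n < 66 := cands_length ▸ hn
  have hno : ∀ X : List Mv, X.all Mv.ok = true → coElt X = χ aOne →
      breaks X (cands.getD n []) = false := by
    intro X hX hXa
    rw [Bool.eq_false_iff]
    intro h
    simp only [breaks, List.any_eq_true] at h
    obtain ⟨r, hr, p, hp, hmv⟩ := h
    obtain ⟨h1, h2⟩ := relW_spec hX (cands_ok _ hw) r
    refine coElt_ne_one h1 (j := p) ?_ hmv ?_
    · simp only [List.mem_cons, List.not_mem_nil, or_false] at hp
      omega
    rw [h2, hXa, ← hwc]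
    have h3 := map_relVal χ.toMonoidHom aOne cOne r.1
    change χ _ = relVal (χ aOne) (χ cOne) r.1 at h3
    rw [← h3, ← map_pow, rels_hold r hr, map_one]
  obtain ⟨t1, t2⟩ := breaks_table
  simp only [allBelow_iff, Bool.or_eq_true, beq_iff_eq] at t1 t2
  rcases he with rfl | rfl
  · rcases t1 n hn' with rfl | h
    · refine ⟨aOne ^ j * (bOne ^ m * g1), fun i => ?_⟩
      have key : ∀ x, aOne ^ j * (bOne ^ m * g1) * φ x * (aOne ^ j * (bOne ^ m * g1))⁻¹ = χ x := by
        intro x
        simp only [χ, ψ, MulAut.mul_apply, MulAut.conj_apply, mul_inv_rev, mul_assoc]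
      rw [key]
      fin_cases i
      · exact hχa.trans (pow_one _)
      · exact hχb
      · exact hwc.trans coElt_cands
    · rw [hno [aMv] aMv_ok (by rw [hχa, pow_one]; rfl)] at h
      simp at h
  · have h := t2 n hn'
    rw [hno [aInvMv] aInvMv_ok (by rw [hχa, coElt_aInvMv])] at h
    simp at h

end CfsgLib.CoOneOut
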